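import Cfsg.Agent.Lib.H17.HeCOrd.Lv1Cert
import Cfsg.Agent.Lib.H17.HeCOrd.Lv2Cert
import Cfsg.Agent.Lib.H17.HeCOrd.Lv3Cert
import Cfsg.Agent.Lib.H17.HeCOrd.Lv4Cert

set_option autoImplicit false
set_option maxRecDepth 100000

/-! # Upper bound for the order of HeC (generated) -/

namespace Cfsg.Agent.Lib.H17.HeCOrd

open Cfsg.Spor Cfsg.Agent.Lib.H17.CosetCert Cfsg.Agent.Lib.H17.CoxGlue Cfsg.Agent.Lib.H17.HeCGlue Cfsg.Agent.Lib.H17.SubChain

/-- the upper bound for the order -/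
theorem card_le : 0 < Nat.card G ∧ Nat.card G ≤ 21504 := by
  have c0 := card_zero γo
  have c1 := card_step γo (by norm_num : 0 ≤ 1) c0 Lv1.level
  have c2 := card_step γo (by norm_num : 1 ≤ 2) c1 Lv2.level
  have c3 := card_step γo (by norm_num : 2 ≤ 3) c2 Lv3.level
  have c4 := card_step γo (by norm_num : 3 ≤ 4) c3 Lv4.level
  rw [K_top, Subgroup.card_top] at c4
  refine ⟨c4.1, le_trans c4.2 (by norm_num)⟩

end Cfsg.Agent.Lib.H17.HeCOrd
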